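import Groth.Agent.AdicLim.Noetherian
import Groth.Agent.Cohen.Completion
import Groth.Agent.FormalStalk.Completion
import Groth.Agent.TFEmb.Basic
import Groth.Agent.FlatDepth.Formal
import Groth.Agent.AdicBasics.Dimension
import Groth.Agent.NormalBC.Normal
import Groth.Agent.GeomProp.NormalColim
import Groth.Agent.S2641
import Groth.Agent.FlatDepth.RegHom
import Groth.Agent.Easy3.Excellent

/-!
Completions along a finite extension of local domains: generators, injectivity, and intersections.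
-/
set_option autoImplicit false
set_option linter.style.haveILetI false
set_option linter.unusedSectionVars false
set_option backward.isDefEq.respectTransparency false
universe u

namespace Groth.Agent.CplComp
open IsLocalRing TensorProduct

section Aux
variable {T A : Type u} [CommRing T] [IsNoetherianRing T] [IsLocalRing T] [CommRing A] [IsNoetherianRing A]
  [IsLocalRing A] [Algebra T A] [IsLocalHom (algebraMap T A)]
  [Algebra (EGA4.Cpl T) (EGA4.Cpl A)]

theorem mem_pow_cpl_iff (n : ℕ) (a : A) :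
    algebraMap A (EGA4.Cpl A) a ∈ maximalIdeal (EGA4.Cpl A) ^ n ↔ a ∈ maximalIdeal A ^ n := by
  rw [AdicCompletion.maximalIdeal_eq_map, ← FormalStalk.ker_evalₐ _ (IsNoetherian.noetherian _), RingHom.mem_ker,
    ← Ideal.Quotient.eq_zero_iff_mem]
  exact iff_of_eq (congrArg (· = 0) (FormalStalk.evalₐ_algebraMap _ n a))

theorem eq_zero_of_mem_pow {y : EGA4.Cpl A} (h : ∀ n, y ∈ maximalIdeal (EGA4.Cpl A) ^ n) : y = 0 := by
  refine AdicCompletion.ext_evalₐ fun n => ?_
  have h1 := h n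
  rw [AdicCompletion.maximalIdeal_eq_map, ← FormalStalk.ker_evalₐ _ (IsNoetherian.noetherian _), RingHom.mem_ker] at h1
  rw [map_zero]
  exact h1

theorem map_maximalIdeal_le
    (hcompat : ∀ t : T, algebraMap (EGA4.Cpl T) (EGA4.Cpl A) (algebraMap T (EGA4.Cpl T) t) =
      algebraMap A (EGA4.Cpl A) (algebraMap T A t)) :
    (maximalIdeal (EGA4.Cpl T)).map (algebraMap (EGA4.Cpl T) (EGA4.Cpl A)) ≤ maximalIdeal (EGA4.Cpl A) := by
  rw [AdicCompletion.maximalIdeal_eq_map, Ideal.map_map, Ideal.map_le_iff_le_comap]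
  intro t ht
  rw [Ideal.mem_comap, RingHom.comp_apply, hcompat, ← pow_one (maximalIdeal (EGA4.Cpl A)), mem_pow_cpl_iff, pow_one]
  exact map_nonunit (algebraMap T A) t ht

theorem cpl_map_pow
    (hcompat : ∀ t : T, algebraMap (EGA4.Cpl T) (EGA4.Cpl A) (algebraMap T (EGA4.Cpl T) t) =
      algebraMap A (EGA4.Cpl A) (algebraMap T A t)) (n : ℕ) (z : EGA4.Cpl T)
    (hz : z ∈ maximalIdeal (EGA4.Cpl T) ^ n) :
    algebraMap (EGA4.Cpl T) (EGA4.Cpl A) z ∈ maximalIdeal (EGA4.Cpl A) ^ n := by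
  have h := Ideal.mem_map_of_mem (algebraMap (EGA4.Cpl T) (EGA4.Cpl A)) hz
  rw [Ideal.map_pow] at h
  exact Ideal.pow_right_mono (map_maximalIdeal_le hcompat) n h

end Aux

section Span
variable {R B A S : Type u} [CommRing R] [IsLocalRing R] [CommRing B] [Algebra R B] [Module.Finite R B]
  [IsNoetherianRing R] (𝔪 : Ideal B) [𝔪.IsMaximal]
  [CommRing A] [IsLocalRing A] [Algebra B A] [IsLocalization.AtPrime A 𝔪] [Algebra R A] [IsScalarTower R B A]
  [CommRing S] [IsNoetherianRing S] [IsLocalRing S] [Algebra R S] [IsLocalHom (algebraMap R S)]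
  [Algebra S A] [IsScalarTower R S A] [IsLocalHom (algebraMap S A)] [IsNoetherianRing A]
  [Algebra (EGA4.Cpl S) (EGA4.Cpl A)]

include 𝔪

theorem exists_pow_le : ∃ N, maximalIdeal A ^ N ≤ (maximalIdeal R).map (algebraMap R A) := by
  obtain ⟨N, hN⟩ := ((maximalIdeal R).map (algebraMap R A)).exists_radical_pow_le_of_fg (IsNoetherian.noetherian _)
  refine ⟨N, (Ideal.pow_right_mono ?_ N).trans hN⟩
  rw [Ideal.radical_eq_sInf]
  refine le_sInf ?_
  rintro P ⟨hP, hPp⟩
  haveI := hPp
  haveI : (P.comap (algebraMap B A)).IsPrime := Ideal.IsPrime.comap _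
  have h1 : (P.comap (algebraMap B A)).comap (algebraMap R B) = maximalIdeal R := by
    rw [Ideal.comap_comap, ← IsScalarTower.algebraMap_eq]
    exact ((IsLocalRing.maximalIdeal.isMaximal R).eq_of_le (Ideal.IsPrime.comap _).ne_top
      (Ideal.map_le_iff_le_comap.1 hP)).symm
  have h2 : (P.comap (algebraMap B A)).IsMaximal :=
    Ideal.isMaximal_of_isIntegral_of_isMaximal_comap (R := R) _ (by rw [h1]; infer_instance)
  have h3 : P.comap (algebraMap B A) ≤ 𝔪 := by
    rw [← IsLocalization.AtPrime.comap_maximalIdeal A 𝔪]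
    exact Ideal.comap_mono (le_maximalIdeal hPp.ne_top)
  have h4 := h2.eq_of_le (Ideal.IsPrime.ne_top inferInstance) h3
  rw [← IsLocalization.AtPrime.map_eq_maximalIdeal 𝔪 A, ← h4]
  exact Ideal.map_comap_le

theorem exists_mem_sub (a : A) (n : ℕ) : ∃ b : B, a - algebraMap B A b ∈ maximalIdeal A ^ n := by
  obtain ⟨b, u, rfl⟩ := IsLocalization.exists_mk'_eq 𝔪.primeCompl a
  have h1 : Ideal.span {(u : B)} ⊔ 𝔪 = ⊤ :=
    ‹𝔪.IsMaximal›.1.2 _ (lt_of_le_of_ne le_sup_right fun h => u.2
      (h.symm.le (Ideal.mem_sup_left (Ideal.subset_span rfl))))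
  obtain ⟨y, hy, z, hz, e⟩ := Submodule.mem_sup.1 ((Ideal.eq_top_iff_one _).1 (Ideal.sup_pow_eq_top (n := n) h1))
  obtain ⟨v, rfl⟩ := Ideal.mem_span_singleton'.1 hy
  refine ⟨b * v, ?_⟩
  have h2 := IsLocalization.mk'_spec A b u
  have h3 : algebraMap B A z ∈ maximalIdeal A ^ n := by
    rw [← IsLocalization.AtPrime.map_eq_maximalIdeal 𝔪 A, ← Ideal.map_pow]
    exact Ideal.mem_map_of_mem _ hz
  have h4 : IsLocalization.mk' A b u - algebraMap B A (b * v) = IsLocalization.mk' A b u * algebraMap B A z := by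
    have h5 := congrArg (algebraMap B A) e
    rw [map_add, map_mul, map_one] at h5
    rw [map_mul]
    linear_combination (-(IsLocalization.mk' A b u)) * h5 + (algebraMap B A v) * h2
  rw [h4]
  exact Ideal.mul_mem_left _ _ h3

/-- The completion of the local ring is spanned by generators of the finite algebra. -/
theorem span_cpl {n : ℕ} (b : Fin n → B) (hb : Submodule.span R (Set.range b) = ⊤)
    (hcompat : ∀ s : S, algebraMap (EGA4.Cpl S) (EGA4.Cpl A) (algebraMap S (EGA4.Cpl S) s) =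
      algebraMap A (EGA4.Cpl A) (algebraMap S A s)) (x : EGA4.Cpl A) :
    ∃ c : Fin n → EGA4.Cpl S,
      ∑ i, algebraMap (EGA4.Cpl S) (EGA4.Cpl A) (c i) * algebraMap A (EGA4.Cpl A) (algebraMap B A (b i)) = x := by
  classical
  haveI : IsNoetherianRing (EGA4.Cpl S) := AdicBasics.isNoetherianRing_completion S
  let I := maximalIdeal (EGA4.Cpl S)
  haveI : IsAdicComplete I (EGA4.Cpl S) := by
    haveI : IsAdicComplete (maximalIdeal S) (EGA4.Cpl S) :=
      AdicCompletion.isAdicComplete (IsNoetherian.noetherian _)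
    show IsAdicComplete (maximalIdeal (EGA4.Cpl S)) (EGA4.Cpl S)
    rw [AdicCompletion.maximalIdeal_eq_map]
    exact (IsAdicComplete.map_algebraMap_iff _ _).2 inferInstance
  haveI : IsAdicComplete I (Fin n → EGA4.Cpl S) := AdicLim.isAdicComplete_of_finite I _
  haveI : IsHausdorff I (EGA4.Cpl A) := ⟨fun y hy => eq_zero_of_mem_pow fun k => by
    have h := hy k
    rw [SModEq.zero, Ideal.smul_top_eq_map] at h
    rw [Submodule.restrictScalars_mem, Ideal.map_pow] at h
    exact Ideal.pow_right_mono (map_maximalIdeal_le hcompat) k h⟩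
  let jA := algebraMap A (EGA4.Cpl A)
  let f : (Fin n → EGA4.Cpl S) →ₗ[EGA4.Cpl S] EGA4.Cpl A :=
    Fintype.linearCombination (EGA4.Cpl S) fun i => jA (algebraMap B A (b i))
  have hf : ∀ c, f c = ∑ i, algebraMap (EGA4.Cpl S) (EGA4.Cpl A) (c i) * jA (algebraMap B A (b i)) := fun c => by
    simp only [f, Fintype.linearCombination_apply, Algebra.smul_def]
  suffices hmod : ∀ y : EGA4.Cpl A, ∃ c, y - f c ∈ (I • ⊤ : Submodule (EGA4.Cpl S) (EGA4.Cpl A)) by
    obtain ⟨c, hc⟩ := surjective_of_mkQ_comp_surjective (I := I) (f := f) (fun q => by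
      obtain ⟨y, rfl⟩ := Submodule.mkQ_surjective _ q
      obtain ⟨c, hc⟩ := hmod y
      exact ⟨c, ((Submodule.Quotient.eq _).2 hc).symm⟩) x
    exact ⟨c, (hf c).symm.trans hc⟩
  intro y
  obtain ⟨N, hN⟩ := exists_pow_le (R := R) (A := A) 𝔪
  obtain ⟨a, ha⟩ := Cohen.exists_sub_mem_pow y N
  obtain ⟨z, hz⟩ := exists_mem_sub 𝔪 a N
  obtain ⟨r, hr⟩ := (Submodule.mem_span_range_iff_exists_fun R).1 (hb ▸ Submodule.mem_top : z ∈ Submodule.span R (Set.range b))
  refine ⟨fun i => algebraMap S (EGA4.Cpl S) (algebraMap R S (r i)), ?_⟩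
  have h1 : f (fun i => algebraMap S (EGA4.Cpl S) (algebraMap R S (r i))) = jA (algebraMap B A z) := by
    rw [hf, ← hr, map_sum, map_sum]
    refine Finset.sum_congr rfl fun i _ => ?_
    rw [hcompat, ← IsScalarTower.algebraMap_apply R S A, ← map_mul, Algebra.smul_def, map_mul (algebraMap B A),
      ← IsScalarTower.algebraMap_apply R B A]
  rw [h1, Ideal.smul_top_eq_map, Submodule.restrictScalars_mem]
  have h2 : y - jA (algebraMap B A z) ∈ maximalIdeal (EGA4.Cpl A) ^ N := by
    have := add_mem ha ((mem_pow_cpl_iff N _).2 hz)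
    rwa [map_sub, sub_add_sub_cancel] at this
  refine (le_trans (b := ((maximalIdeal R).map (algebraMap R A)).map (algebraMap A (EGA4.Cpl A))) ?_ ?_ :
    maximalIdeal (EGA4.Cpl A) ^ N ≤ I.map (algebraMap (EGA4.Cpl S) (EGA4.Cpl A))) h2
  · rw [AdicCompletion.maximalIdeal_eq_map, ← Ideal.map_pow]
    exact Ideal.map_mono hN
  · rw [Ideal.map_map, Ideal.map_le_iff_le_comap]
    intro t ht
    rw [Ideal.mem_comap, RingHom.comp_apply, IsScalarTower.algebraMap_apply R S A, ← hcompat]
    refine Ideal.mem_map_of_mem _ ?_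
    show algebraMap S (EGA4.Cpl S) (algebraMap R S t) ∈ maximalIdeal (EGA4.Cpl S)
    rw [AdicCompletion.maximalIdeal_eq_map]
    exact Ideal.mem_map_of_mem _ (map_nonunit (algebraMap R S) t ht)

end Span

section Inj
variable {T A : Type u} [CommRing T] [IsDomain T] [IsNoetherianRing T] [IsLocalRing T] [CommRing A] [IsDomain A]
  [IsNoetherianRing A] [IsLocalRing A] [Algebra T A] [IsLocalHom (algebraMap T A)]
  [Algebra (EGA4.Cpl T) (EGA4.Cpl A)]

/-- If the completion of `T` is a domain then it injects into that of `A`, for `A` a localization of a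
finite torsion-free `T`-algebra. -/
theorem cpl_injective (B' : Subalgebra T A) [Module.Finite T B'] (hinj : Function.Injective (algebraMap T A))
    (hloc : ∀ a : A, ∃ b ∈ B', ∃ u ∈ B', IsUnit u ∧ a * u = b) [IsDomain (EGA4.Cpl T)]
    (hcompat : ∀ t : T, algebraMap (EGA4.Cpl T) (EGA4.Cpl A) (algebraMap T (EGA4.Cpl T) t) =
      algebraMap A (EGA4.Cpl A) (algebraMap T A t)) :
    Function.Injective (algebraMap (EGA4.Cpl T) (EGA4.Cpl A)) := by
  classical
  haveI : IsNoetherianRing (EGA4.Cpl T) := AdicBasics.isNoetherianRing_completion T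
  haveI : Module.IsTorsionFree T B' := by
    haveI : FaithfulSMul T A := (faithfulSMul_iff_algebraMap_injective T A).2 hinj
    exact Function.Injective.moduleIsTorsionFree B'.val.toLinearMap Subtype.val_injective (fun r x => rfl)
  obtain ⟨k, ψ, hψ⟩ := TFEmb.exists_injective (R := T) (M := B')
  haveI : Module.Flat T (EGA4.Cpl T) := AdicCompletion.flat_of_isNoetherian _
  let Z := EGA4.Cpl T ⊗[T] B'
  haveI : Module.Finite (EGA4.Cpl T) Z := inferInstance
  haveI : IsNoetherianRing Z := IsNoetherianRing.of_finite (EGA4.Cpl T) Z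
  let Ψ : Z →ₗ[EGA4.Cpl T] (EGA4.Cpl T ⊗[T] (Fin k → T)) := ψ.baseChange (EGA4.Cpl T)
  have hΨ : Function.Injective Ψ := Module.Flat.lTensor_preserves_injective_linearMap ψ hψ
  let eF := TensorProduct.piScalarRight T (EGA4.Cpl T) (EGA4.Cpl T) (Fin k)
  have htf : ∀ (c : EGA4.Cpl T) (z : Z), c • z = 0 → c = 0 ∨ z = 0 := by
    intro c z h
    have h1 : c • eF (Ψ z) = 0 := by rw [← map_smul, ← map_smul, h, map_zero, map_zero]
    rcases smul_eq_zero.1 h1 with h2 | h2
    · exact Or.inl h2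
    · refine Or.inr (hΨ ?_)
      rw [map_zero]
      exact eF.injective (h2.trans (map_zero eF).symm)
  let κ : Z →ₐ[T] EGA4.Cpl A := Algebra.TensorProduct.lift
    { algebraMap (EGA4.Cpl T) (EGA4.Cpl A) with commutes' := fun t => (hcompat t).trans (IsScalarTower.algebraMap_apply T A (EGA4.Cpl A) t).symm }
    { (algebraMap A (EGA4.Cpl A)).comp B'.val.toRingHom with commutes' := fun t => (IsScalarTower.algebraMap_apply T A (EGA4.Cpl A) t).symm } fun _ _ => Commute.all _ _
  have hκ : ∀ c b, κ (c ⊗ₜ[T] b) = algebraMap (EGA4.Cpl T) (EGA4.Cpl A) c * algebraMap A (EGA4.Cpl A) b :=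
    fun c b => Algebra.TensorProduct.lift_tmul _ _ _ c b
  let M : Ideal Z := (maximalIdeal (EGA4.Cpl A)).comap κ.toRingHom
  haveI : M.IsPrime := Ideal.IsPrime.comap _
  have hM : M.comap (algebraMap (EGA4.Cpl T) Z) = maximalIdeal (EGA4.Cpl T) := by
    refine ((IsLocalRing.maximalIdeal.isMaximal _).eq_of_le (Ideal.IsPrime.comap _).ne_top fun c hc => ?_).symm
    show κ (algebraMap (EGA4.Cpl T) Z c) ∈ maximalIdeal (EGA4.Cpl A)
    rw [Algebra.TensorProduct.algebraMap_apply, Algebra.algebraMap_self, RingHom.id_apply, hκ]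
    exact Ideal.mul_mem_right _ _ (map_maximalIdeal_le hcompat (Ideal.mem_map_of_mem _ hc))
  haveI hMmax : M.IsMaximal :=
    Ideal.isMaximal_of_isIntegral_of_isMaximal_comap (R := EGA4.Cpl T) M (by rw [hM]; infer_instance)
  let β : B' →ₐ[T] Z := Algebra.TensorProduct.includeRight
  have hβ : ∀ b, κ (β b) = algebraMap A (EGA4.Cpl A) b := fun b => by
    show κ ((1 : EGA4.Cpl T) ⊗ₜ[T] b) = _
    rw [hκ, map_one, one_mul]
  have hMT : ∀ (n : ℕ) (c : EGA4.Cpl T), c ∈ maximalIdeal (EGA4.Cpl T) ^ n → algebraMap (EGA4.Cpl T) Z c ∈ M ^ n :=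
    fun n c hc => by
      have h := Ideal.mem_map_of_mem (algebraMap (EGA4.Cpl T) Z) hc
      rw [Ideal.map_pow] at h
      exact Ideal.pow_right_mono (Ideal.map_le_iff_le_comap.2 hM.ge) n h
  let q : Ideal B' := (maximalIdeal A).comap B'.val.toRingHom
  have hqM : ∀ n, (q ^ n).map β.toRingHom ≤ M ^ n := fun n => by
    rw [Ideal.map_pow]
    refine Ideal.pow_right_mono (Ideal.map_le_iff_le_comap.2 fun b hb => ?_) n
    show κ (β b) ∈ maximalIdeal (EGA4.Cpl A)
    rw [hβ, ← pow_one (maximalIdeal (EGA4.Cpl A)), mem_pow_cpl_iff, pow_one]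
    exact hb
  have hmA : maximalIdeal A ≤ q.map B'.val.toRingHom := by
    intro a ha
    obtain ⟨b, hb, u, hu, huu, e⟩ := hloc a
    obtain ⟨v, hv⟩ := huu.exists_left_inv
    have : a = v * b := by rw [← e, mul_comm a, ← mul_assoc, hv, one_mul]
    rw [this]
    refine Ideal.mul_mem_left _ _ (Ideal.mem_map_of_mem B'.val.toRingHom (show (⟨b, hb⟩ : B') ∈ q from ?_))
    show b ∈ maximalIdeal A
    rw [← e]
    exact Ideal.mul_mem_right _ _ ha
  -- elements of `A` in `m ^ n` come from `q ^ n` after multiplying by a unit of `B'`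
  have hpow : ∀ (n : ℕ) (a : A), a ∈ (q ^ n).map B'.val.toRingHom → ∃ u : B', IsUnit (u : A) ∧
      ∃ b ∈ q ^ n, a * u = (b : A) := by
    intro n a ha
    induction ha using Submodule.span_induction with
    | mem a ha =>
      obtain ⟨b, hb, rfl⟩ := ha
      exact ⟨1, by simp, b, hb, by simp⟩
    | zero => exact ⟨1, by simp, 0, zero_mem _, by simp⟩
    | add a a' _ _ iha iha' =>
      obtain ⟨u, hu, b, hb, e⟩ := iha
      obtain ⟨u', hu', b', hb', e'⟩ := iha'
      refine ⟨u * u', by rw [MulMemClass.coe_mul]; exact hu.mul hu', b * u' + b' * u,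
        add_mem (Ideal.mul_mem_right _ _ hb) (Ideal.mul_mem_right _ _ hb'), ?_⟩
      simp only [MulMemClass.coe_mul, AddMemClass.coe_add, ← e, ← e']
      ring
    | smul c a _ iha =>
      obtain ⟨u, hu, b, hb, e⟩ := iha
      obtain ⟨b₁, hb₁, u₁, hu₁, hu₁', e₁⟩ := hloc c
      refine ⟨u * ⟨u₁, hu₁⟩, by rw [MulMemClass.coe_mul]; exact hu.mul hu₁', b * ⟨b₁, hb₁⟩,
        Ideal.mul_mem_right _ _ hb, ?_⟩
      simp only [MulMemClass.coe_mul, smul_eq_mul, ← e, ← e₁]
      ring
  have hker : ∀ z, κ z = 0 → ∀ n, z ∈ M ^ n := by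
    intro z hz n
    obtain ⟨b, hb⟩ : ∃ b : B', z - β b ∈ M ^ n := by
      clear hz
      induction z using TensorProduct.induction_on with
      | zero => exact ⟨0, by simp⟩
      | add z w hz hw =>
        obtain ⟨b, hb⟩ := hz
        obtain ⟨b', hb'⟩ := hw
        exact ⟨b + b', by rw [map_add, add_sub_add_comm]; exact add_mem hb hb'⟩
      | tmul c b =>
        obtain ⟨t, ht⟩ := Cohen.exists_sub_mem_pow c n
        refine ⟨t • b, ?_⟩
        have h1 : c ⊗ₜ[T] b - β (t • b) = algebraMap (EGA4.Cpl T) Z (c - algebraMap T _ t) * β b := by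
          show _ - (1 : EGA4.Cpl T) ⊗ₜ[T] (t • b) = _ * ((1 : EGA4.Cpl T) ⊗ₜ[T] b)
          rw [Algebra.TensorProduct.algebraMap_apply, Algebra.algebraMap_self, RingHom.id_apply,
            Algebra.TensorProduct.tmul_mul_tmul, mul_one, one_mul, TensorProduct.sub_tmul,
            Algebra.algebraMap_eq_smul_one t, TensorProduct.smul_tmul]
        rw [h1]
        exact Ideal.mul_mem_right _ _ (hMT n _ ht)
    have hκM : (M ^ n).map κ.toRingHom ≤ maximalIdeal (EGA4.Cpl A) ^ n := by
      rw [Ideal.map_pow]; exact Ideal.pow_right_mono Ideal.map_comap_le n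
    have h1 : algebraMap A (EGA4.Cpl A) b ∈ maximalIdeal (EGA4.Cpl A) ^ n := by
      have := hκM (Ideal.mem_map_of_mem κ.toRingHom hb)
      rw [AlgHom.toRingHom_eq_coe, RingHom.coe_coe, map_sub, hz, zero_sub, hβ] at this
      simpa using neg_mem this
    have h2 : (b : A) ∈ (q ^ n).map B'.val.toRingHom := by
      rw [Ideal.map_pow]
      exact Ideal.pow_right_mono hmA n ((mem_pow_cpl_iff n _).1 h1)
    obtain ⟨u, hu, b₁, hb₁, e⟩ := hpow n b h2
    have h3 : β u * β b ∈ M ^ n := by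
      rw [← map_mul, show u * b = b₁ from Subtype.ext (by rw [MulMemClass.coe_mul, mul_comm]; exact e)]
      exact hqM n (Ideal.mem_map_of_mem _ hb₁)
    have hu' : β u ∉ M := fun h => by
      have h' : κ (β u) ∈ maximalIdeal (EGA4.Cpl A) := h
      rw [hβ] at h'
      exact h' (hu.map _)
    have h4 : Ideal.span {β u} ⊔ M = ⊤ := hMmax.1.2 _ (lt_of_le_of_ne le_sup_right fun h => hu'
      (h.symm.le (Ideal.mem_sup_left (Ideal.subset_span rfl))))
    obtain ⟨y, hy, w, hw, ey⟩ := Submodule.mem_sup.1 ((Ideal.eq_top_iff_one _).1 (Ideal.sup_pow_eq_top (n := n) h4))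
    obtain ⟨v, rfl⟩ := Ideal.mem_span_singleton'.1 hy
    have h5 : β b ∈ M ^ n := by
      rw [show β b = v * (β u * β b) + w * β b by rw [← mul_assoc, ← add_mul, ey, one_mul]]
      exact add_mem (Ideal.mul_mem_left _ _ h3) (Ideal.mul_mem_right _ _ hw)
    simpa using add_mem hb h5
  rw [injective_iff_map_eq_zero]
  intro c hc
  let z : Z := algebraMap (EGA4.Cpl T) Z c
  have hz : κ z = 0 := by
    show κ (algebraMap (EGA4.Cpl T) Z c) = 0
    rw [Algebra.TensorProduct.algebraMap_apply, Algebra.algebraMap_self, RingHom.id_apply, hκ, hc, zero_mul]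
  have hsm : ∀ (c : EGA4.Cpl T) (w : Z), c • w = algebraMap (EGA4.Cpl T) Z c * w := fun c w => by
    induction w using TensorProduct.induction_on with
    | zero => simp
    | add p q hp hq => rw [smul_add, mul_add, hp, hq]
    | tmul a b =>
      rw [TensorProduct.smul_tmul', Algebra.TensorProduct.algebraMap_apply, Algebra.algebraMap_self, RingHom.id_apply,
        Algebra.TensorProduct.tmul_mul_tmul, one_mul, smul_eq_mul]
  obtain ⟨r, hr⟩ := (Ideal.mem_iInf_smul_pow_eq_bot_iff M z).1 (Ideal.mem_iInf.2 fun n => by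
    rw [Ideal.smul_eq_mul, Ideal.mul_top]; exact hker z hz n)
  have h1 : c • ((1 : Z) - r) = 0 := by
    rw [hsm]
    rw [mul_sub, mul_one, mul_comm]
    rw [smul_eq_mul] at hr
    rw [hr, sub_self]
  rcases htf c _ h1 with h2 | h2
  · exact h2
  · refine absurd ?_ hMmax.ne_top
    rw [Ideal.eq_top_iff_one, sub_eq_zero.1 h2]
    exact r.2

end Inj

end Groth.Agent.CplComp
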