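import Groth.Agent.CplComp.Basic
import Mathlib.RingTheory.IntegralClosure.GoingDown

/-!
Localizations of integral closures in subfields of a compositum, and their completions.
-/
set_option autoImplicit false
set_option linter.style.haveILetI false
set_option linter.unusedSectionVars false
set_option backward.isDefEq.respectTransparency false
universe u

namespace Groth.Agent.CplComp
open IsLocalRing

/-- Excellent local rings have geometrically normal formal fibres. -/
theorem hasGeomNormalFormalFibres_of_excellent (R : Type u) [CommRing R] [IsLocalRing R] (hR : EGA4.IsExcellent R) :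
    EGA4.HasGeomNormalFormalFibres R := by
  haveI := hR.1
  let R' := Localization.AtPrime (maximalIdeal R)
  have hbij : Function.Bijective (algebraMap R R') :=
    (IsLocalization.atUnits R (maximalIdeal R).primeCompl (fun x hx => notMem_maximalIdeal.1 hx)).bijective
  let e : R ≃+* R' := RingEquiv.ofBijective _ hbij
  haveI : IsNoetherianRing R' := IsLocalization.isNoetherianRing (maximalIdeal R).primeCompl R' hR.1
  have hA : CAlg.IsRegularHom R' (EGA4.Cpl R') := hR.2.2.1.2 (maximalIdeal R)
  have h' : EGA4.HasGeomNormalFormalFibres R' := fun p _ k' _ _ hk => by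
    haveI := (hA.2 p).2 k' hk
    exact FlatDepth.isNormalRing_of_isRegularRing _
  letI : Algebra R' R := e.symm.toRingHom.toAlgebra
  haveI : Algebra.FiniteType R' R :=
    Algebra.FiniteType.of_surjective (Algebra.ofId R' R) e.symm.surjective
  haveI : Algebra.EssFiniteType R' R := inferInstance
  exact S2641.result R' h' R

/-- The completion of a normal local domain with geometrically normal formal fibres is a normal domain. -/
theorem cpl_normal (T : Type u) [CommRing T] [IsDomain T] [IsIntegrallyClosed T] [IsNoetherianRing T] [IsLocalRing T]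
    (h : EGA4.HasGeomNormalFormalFibres T) : IsDomain (EGA4.Cpl T) ∧ IsIntegrallyClosed (EGA4.Cpl T) := by
  haveI : IsNoetherianRing (EGA4.Cpl T) := AdicBasics.isNoetherianRing_completion T
  have hn := (FlatDepth.isNormalRing_cpl_iff T h).1 (GeomProp.isNormalRing_of_domain T)
  have hd : IsDomain (EGA4.Cpl T) :=
    NormalBC.isDomain_of_connected hn (minimalPrimes.finite_of_isNoetherianRing _) fun e he => by
      rcases IsLocalRing.isUnit_or_isUnit_one_sub_self e with h | h
      · exact Or.inr (h.mul_left_cancel (by rw [mul_one]; exact he))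
      · exact Or.inl (h.mul_left_eq_zero.1 (by rw [mul_comm, sub_mul, one_mul, he, sub_self]))
  refine ⟨hd, ?_⟩
  haveI := (hn (maximalIdeal (EGA4.Cpl T))).2
  exact IsIntegrallyClosed.of_equiv (IsLocalization.atUnits (EGA4.Cpl T) (maximalIdeal (EGA4.Cpl T)).primeCompl
    (fun x hx => notMem_maximalIdeal.1 hx) (S := Localization.AtPrime (maximalIdeal (EGA4.Cpl T)))).symm.toRingEquiv

/-- In a normal Noetherian domain divisibility, up to elements outside a prime, descends from an integral
extension. -/
theorem exists_notMem_dvd {C B : Type u} [CommRing C] [IsDomain C] [IsNoetherianRing C] [IsIntegrallyClosed C]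
    [CommRing B] [IsDomain B] [Algebra C B] [Algebra.IsIntegral C B] [FaithfulSMul C B] (𝔪 : Ideal B) [𝔪.IsPrime]
    {a c : C} (hc : c ≠ 0) {u w : B} (hu : u ∉ 𝔪) (e : u * algebraMap C B a = algebraMap C B c * w) :
    ∃ s ∉ 𝔪.comap (algebraMap C B), c ∣ s * a := by
  classical
  by_contra! hall
  let q := 𝔪.comap (algebraMap C B)
  haveI : q.IsPrime := Ideal.IsPrime.comap _
  let J : C → Ideal C := fun t => (Ideal.span {c}).colon {t * a}
  have hJ : ∀ t b, b ∈ J t ↔ c ∣ b * (t * a) := fun t b => by
    simp only [J, Submodule.mem_colon_singleton, smul_eq_mul, Ideal.mem_span_singleton]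
  obtain ⟨P, ⟨t, rfl, hPq⟩, hmax⟩ := set_has_maximal_iff_noetherian.2 (inferInstance : IsNoetherian C C)
    {I | ∃ t, I = J t ∧ I ≤ q} ⟨_, 1, rfl, fun b hb => by_contra fun hb' => hall b hb' (by simpa using (hJ 1 b).1 hb)⟩
  haveI hP : (J t).IsPrime := by
    refine ⟨fun h => (Ideal.IsPrime.ne_top ‹q.IsPrime›) (top_le_iff.1 (h.ge.trans hPq)), fun {x y} hxy => ?_⟩
    by_contra! hn
    by_cases h1 : J (y * t) ≤ q
    · refine hmax _ ⟨_, rfl, h1⟩ (lt_of_le_of_ne (fun b hb => (hJ _ b).2 ?_) fun h => hn.1 (h ▸ (hJ _ x).2 ?_))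
      · have := ((hJ _ b).1 hb).mul_left y
        convert this using 1
        ring
      · have := (hJ _ _).1 hxy
        convert this using 1
        ring
    · obtain ⟨s, hs, hsq⟩ := Set.not_subset.1 h1
      have h2 : J (s * t) ≤ q := fun b hb => by
        refine ((Ideal.IsPrime.mem_or_mem inferInstance (hPq ((hJ _ (b * s)).2 ?_))).resolve_right hsq)
        have := (hJ _ b).1 hb
        convert this using 1
        ring
      refine hmax _ ⟨_, rfl, h2⟩ (lt_of_le_of_ne (fun b hb => (hJ _ b).2 ?_) fun h => hn.2 (h ▸ (hJ _ y).2 ?_))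
      · have := ((hJ _ b).1 hb).mul_left s
        convert this using 1
        ring
      · have := (hJ _ s).1 hs
        convert this using 1
        ring
  obtain ⟨d, hd, c', hc', hdc⟩ : ∃ d ∈ J t, ∃ c', c' ∉ J t ∧ d * (t * a) = c * c' := by
    by_contra! h
    let K := FractionRing C
    have hc0 : algebraMap C K c ≠ 0 := (map_ne_zero_iff _ (IsFractionRing.injective C K)).2 hc
    let z : K := algebraMap C K (t * a) / algebraMap C K c
    have hz : IsIntegral C z := by
      refine isIntegral_of_smul_mem_submodule (Submodule.map (Algebra.linearMap C K) (J t)) ?_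
        ((IsNoetherian.noetherian (J t)).map _) z ?_
      · rw [ne_eq, ← le_bot_iff, Submodule.map_le_iff_le_comap, Submodule.comap_bot,
          LinearMap.ker_eq_bot.2 (show Function.Injective (Algebra.linearMap C K) from IsFractionRing.injective C K)]
        exact fun h' => hc ((Submodule.mem_bot C).1 (h' ((hJ t c).2 (dvd_mul_right c _))))
      · rintro _ ⟨b, hb, rfl⟩
        obtain ⟨f, hf⟩ := (hJ t b).1 hb
        refine ⟨f, by_contra fun hf' => h b hb f hf' hf, ?_⟩
        show algebraMap C K f = z • algebraMap C K b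
        rw [smul_eq_mul, div_mul_eq_mul_div, eq_div_iff hc0, ← map_mul, ← map_mul, mul_comm (t * a), hf, mul_comm f]
    obtain ⟨v, hv⟩ := IsIntegrallyClosed.isIntegral_iff.1 hz
    refine hP.ne_top ((Ideal.eq_top_iff_one _).2 ((hJ t 1).2 ⟨v, ?_⟩))
    apply IsFractionRing.injective C K
    rw [one_mul, map_mul (algebraMap C K) c v, hv, mul_div_cancel₀ _ hc0]
  haveI : 𝔪.LiesOver q := ⟨rfl⟩
  obtain ⟨P', hP'le, hP'p, hP'o⟩ := Ideal.exists_ideal_le_liesOver_of_le 𝔪 hPq
  have hinj := FaithfulSMul.algebraMap_injective C B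
  have hc1 : algebraMap C B c ≠ 0 := (map_ne_zero_iff _ hinj).2 hc
  have h1 : algebraMap C B c' * u = algebraMap C B d * (algebraMap C B t * w) := by
    refine mul_left_cancel₀ hc1 ?_
    have h2 := congrArg (algebraMap C B) hdc
    simp only [map_mul] at h2
    linear_combination (-u) * h2 + (algebraMap C B d * algebraMap C B t) * e
  have h3 : algebraMap C B c' * u ∈ P' := h1 ▸ Ideal.mul_mem_right _ _ (hP'o.over.le hd)
  exact hc' (hP'o.over.ge ((hP'p.mem_or_mem h3).resolve_right fun h => hu (hP'le h)))

section Loc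
variable {R : Type u} [CommRing R] [IsDomain R] [IsLocalRing R] [IsNoetherianRing R] [IsIntegrallyClosed R]
  (K : Type u) {E : Type u} [Field K] [Field E] [Algebra R K] [IsFractionRing R K] [Algebra K E] [Algebra R E]
  [IsScalarTower R K E] [FiniteDimensional K E] [Algebra.IsSeparable K E]
  (q : Ideal (integralClosure R E)) (S : Subalgebra R E)
  (hS : ∀ z : E, z ∈ S ↔ ∃ a b : integralClosure R E, b ∉ q ∧ z * (b : E) = (a : E))

include hS
omit [IsDomain R] [IsLocalRing R] [IsNoetherianRing R] [IsIntegrallyClosed R] in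
theorem le_loc [q.IsPrime] : integralClosure R E ≤ S := fun z hz =>
  (hS z).2 ⟨⟨z, hz⟩, 1, fun h => (Ideal.IsPrime.ne_top inferInstance) ((Ideal.eq_top_iff_one q).2 h), by simp⟩

omit [IsDomain R] [IsLocalRing R] [IsNoetherianRing R] [IsIntegrallyClosed R] in
theorem isLocalization_loc [q.IsPrime] [Algebra (integralClosure R E) S]
    (halg : ∀ x : integralClosure R E, ((algebraMap (integralClosure R E) S x : S) : E) = (x : E)) :
    IsLocalization.AtPrime S q := by
  refine ⟨?_, ?_, ?_⟩
  · rintro ⟨b, hb⟩
    have hb0 : (b : E) ≠ 0 := fun h => hb (by rw [show b = 0 from Subtype.ext h]; exact zero_mem q)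
    have hinv : (b : E)⁻¹ ∈ S := (hS _).2 ⟨1, b, hb, by simp [inv_mul_cancel₀ hb0]⟩
    refine IsUnit.of_mul_eq_one (⟨(b : E)⁻¹, hinv⟩ : S) (Subtype.ext ?_)
    rw [MulMemClass.coe_mul, halg, OneMemClass.coe_one]
    exact mul_inv_cancel₀ hb0
  · intro z
    obtain ⟨a, b, hb, h⟩ := (hS z).1 z.2
    exact ⟨⟨a, ⟨b, hb⟩⟩, Subtype.ext (by rw [MulMemClass.coe_mul, halg, halg]; exact h)⟩
  · intro x y h
    refine ⟨1, ?_⟩
    have := congrArg Subtype.val h
    rw [halg, halg] at this
    rw [Subtype.ext this]

include K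
/-- Basic properties of the local rings of the integral closure. -/
theorem props [q.IsMaximal] [IsLocalRing S] :
    IsNoetherianRing S ∧ IsIntegrallyClosed S ∧ Algebra.EssFiniteType R S ∧ IsLocalHom (algebraMap R S) := by
  letI : Algebra (integralClosure R E) S := (Subalgebra.inclusion (le_loc q S hS)).toRingHom.toAlgebra
  haveI : IsScalarTower R (integralClosure R E) S := IsScalarTower.of_algebraMap_eq fun _ => rfl
  haveI := isLocalization_loc q S hS fun _ => rfl
  haveI : Module.Finite R (integralClosure R E) := IsIntegralClosure.finite R K E _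
  haveI : IsNoetherianRing (integralClosure R E) := IsNoetherianRing.of_finite R _
  haveI : IsIntegrallyClosed (integralClosure R E) := integralClosure.isIntegrallyClosedOfFiniteExtension K
  haveI : Algebra.EssFiniteType (integralClosure R E) S := Algebra.EssFiniteType.of_isLocalization _ q.primeCompl
  refine ⟨IsLocalization.isNoetherianRing q.primeCompl S inferInstance,
    isIntegrallyClosed_of_isLocalization S q.primeCompl q.primeCompl_le_nonZeroDivisors,
    Algebra.EssFiniteType.comp R (integralClosure R E) S, ⟨fun r hr => ?_⟩⟩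
  rw [IsScalarTower.algebraMap_apply R (integralClosure R E) S, IsLocalization.AtPrime.isUnit_to_map_iff S q] at hr
  by_contra h
  exact hr ((eq_maximalIdeal (Ideal.isMaximal_comap_of_isIntegral_of_isMaximal (R := R) q)).ge h)

end Loc

section Setup
variable {R : Type u} [CommRing R] [IsDomain R] [IsLocalRing R] [IsNoetherianRing R] [IsIntegrallyClosed R]
  (K : Type u) {L Ω : Type u} [Field K] [Field L] [Field Ω] [Algebra R K] [IsFractionRing R K]
  [Algebra K L] [Algebra K Ω] [Algebra L Ω]
  [FiniteDimensional K L] [Algebra.IsSeparable K L]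
  [Algebra R L] [Algebra R Ω] [IsScalarTower R K L] [IsScalarTower R K Ω] [IsScalarTower R L Ω]
  (𝔪 : Ideal (integralClosure R Ω)) [𝔪.IsMaximal] (A : Subalgebra R Ω)
  (hA : ∀ z : Ω, z ∈ A ↔ ∃ a b : integralClosure R Ω, b ∉ 𝔪 ∧ z * (b : Ω) = (a : Ω))

include K hA
/-- The trace on a subfield of a local ring of the integral closure is again such a local ring. -/
theorem comap_loc : ∃ q : Ideal (integralClosure R L), q.IsMaximal ∧
    ∀ z : L, z ∈ Subalgebra.comap (IsScalarTower.toAlgHom R L Ω) A ↔
      ∃ a b : integralClosure R L, b ∉ q ∧ z * (b : L) = (a : L) := by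
  let f : integralClosure R L →ₐ[R] integralClosure R Ω := (IsScalarTower.toAlgHom R L Ω).mapIntegralClosure
  letI : Algebra (integralClosure R L) (integralClosure R Ω) := f.toRingHom.toAlgebra
  haveI : IsScalarTower R (integralClosure R L) (integralClosure R Ω) :=
    IsScalarTower.of_algebraMap_eq fun r => (f.commutes r).symm
  haveI : Algebra.IsIntegral R (integralClosure R Ω) := inferInstance
  haveI : Algebra.IsIntegral (integralClosure R L) (integralClosure R Ω) := Algebra.IsIntegral.tower_top (R := R)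
  haveI : FaithfulSMul (integralClosure R L) (integralClosure R Ω) :=
    (faithfulSMul_iff_algebraMap_injective _ _).2 fun x y h =>
      Subtype.ext ((algebraMap L Ω).injective (congrArg Subtype.val h))
  haveI : Module.Finite R (integralClosure R L) := IsIntegralClosure.finite R K L _
  haveI : IsNoetherianRing (integralClosure R L) := IsNoetherianRing.of_finite R _
  haveI : IsIntegrallyClosed (integralClosure R L) := integralClosure.isIntegrallyClosedOfFiniteExtension K
  refine ⟨𝔪.comap (algebraMap _ _), Ideal.isMaximal_comap_of_isIntegral_of_isMaximal 𝔪, fun z => ⟨fun hz => ?_, ?_⟩⟩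
  · obtain ⟨w, u, hu, hzu⟩ := (hA _).1 (show algebraMap L Ω z ∈ A from hz)
    haveI : IsFractionRing (integralClosure R L) L :=
      integralClosure.isFractionRing_of_finite_extension K L
    obtain ⟨a, c, hc, rfl⟩ := IsFractionRing.div_surjective (A := integralClosure R L) z
    have hc0 : c ≠ 0 := nonZeroDivisors.ne_zero hc
    have hcL : (c : L) ≠ 0 := fun h => hc0 (Subtype.ext h)
    have hcΩ : algebraMap L Ω (c : L) ≠ 0 := (map_ne_zero_iff _ (algebraMap L Ω).injective).2 hcL
    have he : u * algebraMap _ (integralClosure R Ω) a = algebraMap _ (integralClosure R Ω) c * w := by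
      refine Subtype.ext ?_
      show (u : Ω) * algebraMap L Ω (a : L) = algebraMap L Ω (c : L) * (w : Ω)
      change algebraMap L Ω ((a : L) / (c : L)) * (u : Ω) = (w : Ω) at hzu
      rw [← hzu, map_div₀]
      field_simp
    obtain ⟨s, hs, v, hv⟩ := exists_notMem_dvd 𝔪 hc0 hu he
    refine ⟨v, s, hs, ?_⟩
    have h' : (s : L) * (a : L) = (c : L) * (v : L) := congrArg Subtype.val hv
    show (a : L) / (c : L) * (s : L) = (v : L)
    field_simp
    linear_combination h'
  · rintro ⟨a, b, hb, h⟩
    refine (hA _).2 ⟨f a, f b, hb, ?_⟩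
    show algebraMap L Ω z * algebraMap L Ω (b : L) = algebraMap L Ω (a : L)
    rw [← map_mul, h]

variable [FiniteDimensional K Ω] [Algebra.IsSeparable K Ω] [IsLocalRing A]
  [Algebra (Subalgebra.comap (IsScalarTower.toAlgHom R L Ω) A) A]
  (hSA : ∀ s : Subalgebra.comap (IsScalarTower.toAlgHom R L Ω) A,
    ((algebraMap (Subalgebra.comap (IsScalarTower.toAlgHom R L Ω) A) A s : A) : Ω) = algebraMap L Ω (s : L))

include hSA
omit [IsNoetherianRing R] [IsIntegrallyClosed R] [IsDomain R] [IsLocalRing R] [IsLocalRing A] hA in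
theorem tower : IsScalarTower R (Subalgebra.comap (IsScalarTower.toAlgHom R L Ω) A) A :=
  IsScalarTower.of_algebraMap_eq fun r => Subtype.ext (by
    rw [hSA]; exact IsScalarTower.algebraMap_apply R L Ω r)

theorem isLocalHom_comap : IsLocalHom (algebraMap (Subalgebra.comap (IsScalarTower.toAlgHom R L Ω) A) A) := by
  refine ⟨fun s hs => ?_⟩
  obtain ⟨w, hw⟩ := hs.exists_right_inv
  by_cases h0 : (s : L) = 0
  · exfalso
    have := congrArg Subtype.val hw
    rw [MulMemClass.coe_mul, hSA, h0, map_zero, zero_mul] at this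
    exact zero_ne_one this
  refine IsUnit.of_mul_eq_one (⟨(s : L)⁻¹, ?_⟩ : Subalgebra.comap (IsScalarTower.toAlgHom R L Ω) A)
    (Subtype.ext (mul_inv_cancel₀ h0))
  show algebraMap L Ω (s : L)⁻¹ ∈ A
  have := congrArg Subtype.val hw
  rw [MulMemClass.coe_mul, hSA, OneMemClass.coe_one] at this
  rw [map_inv₀, ← eq_inv_of_mul_eq_one_right this]
  exact w.2

omit hSA hA in
theorem exists_generators : ∃ (n : ℕ) (b : Fin n → integralClosure R Ω),
    Submodule.span R (Set.range b) = ⊤ := by
  haveI : Module.Finite R (integralClosure R Ω) := IsIntegralClosure.finite R K Ω _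
  exact Module.Finite.exists_fin

/-- The completion of the big ring is spanned over the completion of the small one. -/
theorem span_comap [IsLocalRing (Subalgebra.comap (IsScalarTower.toAlgHom R L Ω) A)]
    [Algebra (EGA4.Cpl (Subalgebra.comap (IsScalarTower.toAlgHom R L Ω) A)) (EGA4.Cpl A)]
    (hcS : ∀ s : Subalgebra.comap (IsScalarTower.toAlgHom R L Ω) A,
      algebraMap (EGA4.Cpl (Subalgebra.comap (IsScalarTower.toAlgHom R L Ω) A)) (EGA4.Cpl A)
        (algebraMap _ (EGA4.Cpl (Subalgebra.comap (IsScalarTower.toAlgHom R L Ω) A)) s) =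
      algebraMap A (EGA4.Cpl A) (algebraMap (Subalgebra.comap (IsScalarTower.toAlgHom R L Ω) A) A s))
    {n : ℕ} (b : Fin n → integralClosure R Ω) (hb : Submodule.span R (Set.range b) = ⊤) (x : EGA4.Cpl A) :
    ∃ c : Fin n → EGA4.Cpl (Subalgebra.comap (IsScalarTower.toAlgHom R L Ω) A),
      ∑ i, algebraMap _ (EGA4.Cpl A) (c i) *
        algebraMap A (EGA4.Cpl A) (Subalgebra.inclusion (le_loc 𝔪 A hA) (b i)) = x := by
  obtain ⟨q, hq, hS⟩ := comap_loc K (L := L) 𝔪 A hA
  obtain ⟨hN, -, -, hloc⟩ := props K q _ hS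
  obtain ⟨hNA, -, -, -⟩ := props K 𝔪 A hA
  letI : Algebra (integralClosure R Ω) A := (Subalgebra.inclusion (le_loc 𝔪 A hA)).toRingHom.toAlgebra
  haveI : IsScalarTower R (integralClosure R Ω) A := IsScalarTower.of_algebraMap_eq fun _ => rfl
  haveI := isLocalization_loc 𝔪 A hA fun _ => rfl
  haveI : Module.Finite R (integralClosure R Ω) := IsIntegralClosure.finite R K Ω _
  haveI := isLocalHom_comap K 𝔪 A hA hSA
  haveI := tower K A hSA
  exact span_cpl 𝔪 b hb hcS x

/-- The completion of the small ring injects into that of the big one. -/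
theorem injective_comap (hR : EGA4.IsExcellent R)
    [IsLocalRing (Subalgebra.comap (IsScalarTower.toAlgHom R L Ω) A)]
    [Algebra (EGA4.Cpl (Subalgebra.comap (IsScalarTower.toAlgHom R L Ω) A)) (EGA4.Cpl A)]
    (hcS : ∀ s : Subalgebra.comap (IsScalarTower.toAlgHom R L Ω) A,
      algebraMap (EGA4.Cpl (Subalgebra.comap (IsScalarTower.toAlgHom R L Ω) A)) (EGA4.Cpl A)
        (algebraMap _ (EGA4.Cpl (Subalgebra.comap (IsScalarTower.toAlgHom R L Ω) A)) s) =
      algebraMap A (EGA4.Cpl A) (algebraMap (Subalgebra.comap (IsScalarTower.toAlgHom R L Ω) A) A s)) :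
    IsDomain (EGA4.Cpl (Subalgebra.comap (IsScalarTower.toAlgHom R L Ω) A)) ∧
    IsIntegrallyClosed (EGA4.Cpl (Subalgebra.comap (IsScalarTower.toAlgHom R L Ω) A)) ∧
    Function.Injective (algebraMap (EGA4.Cpl (Subalgebra.comap (IsScalarTower.toAlgHom R L Ω) A)) (EGA4.Cpl A)) := by
  classical
  obtain ⟨q, hq, hS⟩ := comap_loc K (L := L) 𝔪 A hA
  obtain ⟨hN, hI, hE, hloc⟩ := props K q _ hS
  obtain ⟨hNA, -, -, -⟩ := props K 𝔪 A hA
  obtain ⟨hd, hi⟩ := cpl_normal (Subalgebra.comap (IsScalarTower.toAlgHom R L Ω) A)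
    (S2641.result R (hasGeomNormalFormalFibres_of_excellent R hR) _)
  haveI := isLocalHom_comap K 𝔪 A hA hSA
  haveI := tower K A hSA
  let T := Subalgebra.comap (IsScalarTower.toAlgHom R L Ω) A
  obtain ⟨n, b, hb⟩ := exists_generators (R := R) K (Ω := Ω)
  let g := fun i => Subalgebra.inclusion (le_loc 𝔪 A hA) (b i)
  let B' : Subalgebra T A := Algebra.adjoin T (Set.range g)
  have hint : ∀ y : integralClosure R Ω, IsIntegral T (Subalgebra.inclusion (le_loc 𝔪 A hA) y) := fun y =>
    ((Algebra.IsIntegral.isIntegral (R := R) y).map (Subalgebra.inclusion (le_loc 𝔪 A hA))).tower_top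
  haveI : Module.Finite T B' := Module.Finite.of_fg (fg_adjoin_of_finite (Set.finite_range g) (by
    rintro _ ⟨i, rfl⟩
    exact hint (b i)))
  have hmem : ∀ y : integralClosure R Ω, Subalgebra.inclusion (le_loc 𝔪 A hA) y ∈ B' := fun y => by
    have hy : y ∈ Submodule.span R (Set.range b) := hb ▸ Submodule.mem_top
    induction hy using Submodule.span_induction with
    | mem z hz =>
      obtain ⟨i, rfl⟩ := hz
      exact Algebra.subset_adjoin ⟨i, rfl⟩
    | zero => rw [map_zero]; exact zero_mem _
    | add y z _ _ hy hz => rw [map_add]; exact add_mem hy hz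
    | smul r y _ hy =>
      rw [map_smul, Algebra.smul_def, IsScalarTower.algebraMap_apply R T A]
      exact mul_mem (B'.algebraMap_mem _) hy
  refine ⟨hd, hi, cpl_injective B' ?_ ?_ hcS⟩
  · intro s t h
    have := congrArg Subtype.val h
    rw [hSA, hSA] at this
    exact Subtype.ext ((algebraMap L Ω).injective this)
  · intro a
    obtain ⟨y, u, hu, he⟩ := (hA a).1 a.2
    refine ⟨_, hmem y, _, hmem u, ?_, Subtype.ext he⟩
    letI : Algebra (integralClosure R Ω) A := (Subalgebra.inclusion (le_loc 𝔪 A hA)).toRingHom.toAlgebra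
    haveI := isLocalization_loc 𝔪 A hA fun _ => rfl
    exact IsLocalization.map_units (M := 𝔪.primeCompl) A ⟨u, hu⟩

end Setup

end Groth.Agent.CplComp
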