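import Groth.Agent.CplComp.Field
import Mathlib.FieldTheory.SeparableDegree

/-!
The completion of a local ring of the integral closure in a compositum.
-/
set_option autoImplicit false
set_option linter.style.haveILetI false
set_option linter.unusedSectionVars false
set_option backward.isDefEq.respectTransparency false
universe u

namespace Groth.Agent.CplComp
open IsLocalRing

/-- A quotient of two elements of an integrally closed domain lying in a finite extension comes from it. -/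
theorem mem_range_of_div {P Q : Type u} [CommRing P] [IsDomain P] [IsIntegrallyClosed P] [CommRing Q] [IsDomain Q]
    [Algebra P Q] (hinj : Function.Injective (algebraMap P Q)) {n : ℕ} (g : Fin n → Q)
    (hg : ∀ y : Q, ∃ c : Fin n → P, ∑ i, algebraMap P Q (c i) * g i = y) (x : Q) (a b : P)
    (hb : algebraMap P Q b ≠ 0) (hx : x * algebraMap P Q b = algebraMap P Q a) :
    ∃ v, algebraMap P Q v = x := by
  haveI : Module.Finite P Q := by
    refine ⟨Submodule.fg_def.2 ⟨_, Set.finite_range g, ?_⟩⟩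
    rw [Submodule.eq_top_iff']
    intro y
    obtain ⟨c, hc⟩ := hg y
    rw [← hc]
    refine Submodule.sum_mem _ fun i _ => ?_
    rw [← Algebra.smul_def]
    exact Submodule.smul_mem _ _ (Submodule.subset_span ⟨i, rfl⟩)
  obtain ⟨p, hp, hpx⟩ := Algebra.IsIntegral.isIntegral (R := P) x
  let F := FractionRing P
  let F' := FractionRing Q
  have hinj' : Function.Injective ((algebraMap Q F').comp (algebraMap P Q)) :=
    (IsFractionRing.injective Q F').comp hinj
  let ψ : F →+* F' := IsFractionRing.lift hinj'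
  have h1 : ∀ c, ψ (algebraMap P F c) = algebraMap Q F' (algebraMap P Q c) :=
    fun c => IsFractionRing.lift_algebraMap hinj' c
  have hzx : ψ (algebraMap P F a / algebraMap P F b) = algebraMap Q F' x := by
    rw [map_div₀, h1, h1, ← hx, map_mul,
      mul_div_cancel_right₀ _ ((map_ne_zero_iff _ (IsFractionRing.injective Q F')).2 hb)]
  have hz : IsIntegral P (algebraMap P F a / algebraMap P F b) := by
    refine ⟨p, hp, ψ.injective ?_⟩
    rw [map_zero, Polynomial.hom_eval₂, hzx, show ψ.comp (algebraMap P F) = (algebraMap Q F').comp (algebraMap P Q) from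
      RingHom.ext h1, ← Polynomial.hom_eval₂, hpx, map_zero]
  obtain ⟨v, hv⟩ := IsIntegrallyClosed.isIntegral_iff.1 hz
  exact ⟨v, IsFractionRing.injective Q F' (by rw [← hzx, ← hv, h1])⟩

variable {R : Type u} (K : Type u) {L M Ω : Type u} [CommRing R] [IsDomain R] [IsLocalRing R] [IsIntegrallyClosed R]
  (hR : EGA4.IsExcellent R) [Field K] [Field L] [Field M] [Field Ω] [Algebra R K] [IsFractionRing R K]
  [Algebra K L] [Algebra K M] [Algebra K Ω] [Algebra L Ω] [Algebra M Ω]
  [IsScalarTower K L Ω] [IsScalarTower K M Ω] [FiniteDimensional K L] [FiniteDimensional K M]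
  [Algebra.IsSeparable K L] [Algebra.IsSeparable K M]
  (hΩ : IntermediateField.adjoin K (Set.range (algebraMap L Ω) ∪ Set.range (algebraMap M Ω)) = ⊤)
  [Algebra R L] [Algebra R M] [Algebra R Ω] [IsScalarTower R K L] [IsScalarTower R K M] [IsScalarTower R K Ω]
  [IsScalarTower R L Ω] [IsScalarTower R M Ω]

include hΩ in
omit [IsDomain R] [IsLocalRing R] [IsIntegrallyClosed R] [IsFractionRing R K] in
theorem finite_separable : FiniteDimensional K Ω ∧ Algebra.IsSeparable K Ω := by
  let fL := (IsScalarTower.toAlgHom K L Ω).fieldRange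
  let fM := (IsScalarTower.toAlgHom K M Ω).fieldRange
  let eL := AlgEquiv.ofInjectiveField (IsScalarTower.toAlgHom K L Ω)
  let eM := AlgEquiv.ofInjectiveField (IsScalarTower.toAlgHom K M Ω)
  haveI : FiniteDimensional K fL := Module.Finite.equiv eL.toLinearEquiv
  haveI : FiniteDimensional K fM := Module.Finite.equiv eM.toLinearEquiv
  haveI : Algebra.IsSeparable K fL := AlgEquiv.Algebra.isSeparable eL
  haveI : Algebra.IsSeparable K fM := AlgEquiv.Algebra.isSeparable eM
  have htop : (⊤ : IntermediateField K Ω) = fL ⊔ fM := by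
    refine le_antisymm (hΩ.symm.le.trans (IntermediateField.adjoin_le_iff.2 (Set.union_subset ?_ ?_))) le_top
    · rintro _ ⟨x, rfl⟩
      exact SetLike.le_def.1 le_sup_left ⟨x, rfl⟩
    · rintro _ ⟨x, rfl⟩
      exact SetLike.le_def.1 le_sup_right ⟨x, rfl⟩
  haveI : FiniteDimensional K (⊤ : IntermediateField K Ω) := by
    rw [htop]; exact IntermediateField.finiteDimensional_sup fL fM
  haveI : Algebra.IsSeparable K (⊤ : IntermediateField K Ω) := by
    rw [htop]; infer_instance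
  exact ⟨Module.Finite.equiv IntermediateField.topEquiv.toLinearEquiv,
    AlgEquiv.Algebra.isSeparable IntermediateField.topEquiv⟩

variable (𝔪 : Ideal (integralClosure R Ω)) [𝔪.IsMaximal] (A : Subalgebra R Ω)
  (hA : ∀ z : Ω, z ∈ A ↔ ∃ a b : integralClosure R Ω, b ∉ 𝔪 ∧ z * (b : Ω) = (a : Ω))
  [IsLocalRing A]
  [IsLocalRing (Subalgebra.comap (IsScalarTower.toAlgHom R L Ω) A)]
  [IsLocalRing (Subalgebra.comap (IsScalarTower.toAlgHom R M Ω) A)]
  [Algebra (Subalgebra.comap (IsScalarTower.toAlgHom R L Ω) A) A]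
  (hSA : ∀ s : Subalgebra.comap (IsScalarTower.toAlgHom R L Ω) A,
    ((algebraMap (Subalgebra.comap (IsScalarTower.toAlgHom R L Ω) A) A s : A) : Ω) = algebraMap L Ω (s : L))
  [Algebra (Subalgebra.comap (IsScalarTower.toAlgHom R M Ω) A) A]
  (hTA : ∀ t : Subalgebra.comap (IsScalarTower.toAlgHom R M Ω) A,
    ((algebraMap (Subalgebra.comap (IsScalarTower.toAlgHom R M Ω) A) A t : A) : Ω) = algebraMap M Ω (t : M))
  [Algebra (EGA4.Cpl (Subalgebra.comap (IsScalarTower.toAlgHom R L Ω) A)) (EGA4.Cpl A)]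
  (hcS : ∀ s : Subalgebra.comap (IsScalarTower.toAlgHom R L Ω) A,
    algebraMap (EGA4.Cpl (Subalgebra.comap (IsScalarTower.toAlgHom R L Ω) A)) (EGA4.Cpl A)
      (algebraMap _ (EGA4.Cpl (Subalgebra.comap (IsScalarTower.toAlgHom R L Ω) A)) s) =
    algebraMap A (EGA4.Cpl A) (algebraMap (Subalgebra.comap (IsScalarTower.toAlgHom R L Ω) A) A s))
  [Algebra (EGA4.Cpl (Subalgebra.comap (IsScalarTower.toAlgHom R M Ω) A)) (EGA4.Cpl A)]
  (hcT : ∀ t : Subalgebra.comap (IsScalarTower.toAlgHom R M Ω) A,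
    algebraMap (EGA4.Cpl (Subalgebra.comap (IsScalarTower.toAlgHom R M Ω) A)) (EGA4.Cpl A)
      (algebraMap _ (EGA4.Cpl (Subalgebra.comap (IsScalarTower.toAlgHom R M Ω) A)) t) =
    algebraMap A (EGA4.Cpl A) (algebraMap (Subalgebra.comap (IsScalarTower.toAlgHom R M Ω) A) A t))

include K hR hΩ hA hSA hTA hcS hcT in
/-- The fraction field of the completion is generated by those of the two smaller completions. -/
theorem frac_adjoin (x : EGA4.Cpl A) :
    ∃ a b : EGA4.Cpl A,
      a ∈ Algebra.adjoin (EGA4.Cpl (Subalgebra.comap (IsScalarTower.toAlgHom R L Ω) A))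
        (Set.range (algebraMap (EGA4.Cpl (Subalgebra.comap (IsScalarTower.toAlgHom R M Ω) A)) (EGA4.Cpl A))) ∧
      b ∈ Algebra.adjoin (EGA4.Cpl (Subalgebra.comap (IsScalarTower.toAlgHom R L Ω) A))
        (Set.range (algebraMap (EGA4.Cpl (Subalgebra.comap (IsScalarTower.toAlgHom R M Ω) A)) (EGA4.Cpl A))) ∧
      b ≠ 0 ∧ x * b = a := by
  classical
  haveI := hR.1
  obtain ⟨hfin, hsep⟩ := finite_separable K hΩ
  obtain ⟨hNA, -, -, -⟩ := props K 𝔪 A hA
  set D := Algebra.adjoin (EGA4.Cpl (Subalgebra.comap (IsScalarTower.toAlgHom R L Ω) A)) (Set.range (algebraMap (EGA4.Cpl (Subalgebra.comap (IsScalarTower.toAlgHom R M Ω) A)) (EGA4.Cpl A))) with hD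
  let j := algebraMap A (EGA4.Cpl A)
  have hj : Function.Injective j := AdicCompletion.of_injective (I := maximalIdeal A) (M := A)
  let W : Subalgebra R Ω :=
    { carrier := {ω | ∃ r : R, r ≠ 0 ∧ ∃ a : A, (a : Ω) = algebraMap R Ω r * ω ∧ j a ∈ D}
      mul_mem' := by
        rintro x y ⟨r, hr, a, ha, ha'⟩ ⟨s, hs, b, hb, hb'⟩
        refine ⟨r * s, mul_ne_zero hr hs, a * b, ?_, by rw [map_mul]; exact mul_mem ha' hb'⟩
        rw [MulMemClass.coe_mul, ha, hb, map_mul]; ring
      add_mem' := by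
        rintro x y ⟨r, hr, a, ha, ha'⟩ ⟨s, hs, b, hb, hb'⟩
        have hRD : ∀ r : R, j (algebraMap R A r) ∈ D := fun r => by
          haveI := tower (R := R) K A hSA
          rw [IsScalarTower.algebraMap_apply R (Subalgebra.comap (IsScalarTower.toAlgHom R L Ω) A) A, ← hcS]
          exact D.algebraMap_mem _
        refine ⟨r * s, mul_ne_zero hr hs, algebraMap R A s * a + algebraMap R A r * b, ?_,
          by rw [map_add, map_mul, map_mul]; exact add_mem (mul_mem (hRD s) ha') (mul_mem (hRD r) hb')⟩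
        rw [AddMemClass.coe_add, MulMemClass.coe_mul, MulMemClass.coe_mul, ha, hb, map_mul,
          Subalgebra.coe_algebraMap, Subalgebra.coe_algebraMap]
        ring
      algebraMap_mem' := fun t => by
        refine ⟨1, one_ne_zero, algebraMap R A t, by rw [Subalgebra.coe_algebraMap, map_one, one_mul], ?_⟩
        haveI := tower (R := R) K A hSA
        rw [IsScalarTower.algebraMap_apply R (Subalgebra.comap (IsScalarTower.toAlgHom R L Ω) A) A, ← hcS]
        exact D.algebraMap_mem _ }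
  obtain ⟨qS, hqS, hS⟩ := comap_loc K (L := L) 𝔪 A hA
  obtain ⟨qT, hqT, hT⟩ := comap_loc K (L := M) 𝔪 A hA
  have halg : ∀ (E : Type u) [Field E] [Algebra K E] [FiniteDimensional K E] [Algebra R E] [IsScalarTower R K E]
      (z : E), ∃ r : R, r ≠ 0 ∧ IsIntegral R (algebraMap R E r * z) := by
    intro E _ _ _ _ _ z
    have hz : IsAlgebraic R z :=
      (IsFractionRing.isAlgebraic_iff R K E).2 (Algebra.IsAlgebraic.isAlgebraic z)
    obtain ⟨r, hr, hi⟩ := hz.exists_integral_multiple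
    exact ⟨r, hr, by rwa [← Algebra.smul_def]⟩
  have hWL : ∀ l : L, algebraMap L Ω l ∈ W := fun l => by
    obtain ⟨r, hr, hi⟩ := halg L l
    let s : ↥(Subalgebra.comap (IsScalarTower.toAlgHom R L Ω) A) := ⟨_, le_loc qS (Subalgebra.comap (IsScalarTower.toAlgHom R L Ω) A) hS hi⟩
    refine ⟨r, hr, algebraMap (Subalgebra.comap (IsScalarTower.toAlgHom R L Ω) A) A s, ?_, by rw [← hcS]; exact D.algebraMap_mem _⟩
    rw [hSA, IsScalarTower.algebraMap_apply R L Ω r, ← map_mul]
  have hWM : ∀ l : M, algebraMap M Ω l ∈ W := fun l => by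
    obtain ⟨r, hr, hi⟩ := halg M l
    let t : ↥(Subalgebra.comap (IsScalarTower.toAlgHom R M Ω) A) := ⟨_, le_loc qT (Subalgebra.comap (IsScalarTower.toAlgHom R M Ω) A) hT hi⟩
    refine ⟨r, hr, algebraMap (Subalgebra.comap (IsScalarTower.toAlgHom R M Ω) A) A t, ?_, by rw [← hcT]; exact Algebra.subset_adjoin ⟨_, rfl⟩⟩
    rw [hTA, IsScalarTower.algebraMap_apply R M Ω r, ← map_mul]
  have hW : ∀ ω : Ω, ω ∈ W := fun ω => by
    have h : ω ∈ (IntermediateField.adjoin K (Set.range (algebraMap L Ω) ∪ Set.range (algebraMap M Ω))).toSubalgebra := by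
      rw [hΩ]; exact trivial
    rw [IntermediateField.adjoin_toSubalgebra] at h
    induction h using Algebra.adjoin_induction with
    | mem x hx =>
      rcases hx with ⟨l, rfl⟩ | ⟨l, rfl⟩
      exacts [hWL l, hWM l]
    | algebraMap k => rw [IsScalarTower.algebraMap_apply K L Ω]; exact hWL _
    | add x y _ _ hx hy => exact add_mem hx hy
    | mul x y _ _ hx hy => exact mul_mem hx hy
  obtain ⟨n, b, hb⟩ := exists_generators (R := R) K (Ω := Ω)
  choose r hr a ha ha' using fun i => hW (b i : Ω)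
  obtain ⟨c, hc⟩ := span_comap K 𝔪 A hA hSA hcS b hb x
  let ρ : A := algebraMap R A (∏ i, r i)
  have hρD : ∀ r : R, j (algebraMap R A r) ∈ D := fun r => by
    haveI := tower (R := R) K A hSA
    rw [IsScalarTower.algebraMap_apply R (Subalgebra.comap (IsScalarTower.toAlgHom R L Ω) A) A, ← hcS]
    exact D.algebraMap_mem _
  refine ⟨x * j ρ, j ρ, ?_, hρD _, ?_, rfl⟩
  · rw [← hc, Finset.sum_mul]
    refine Subalgebra.sum_mem _ fun i _ => ?_
    rw [mul_assoc, ← map_mul]
    refine mul_mem (D.algebraMap_mem _) ?_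
    have : Subalgebra.inclusion (le_loc 𝔪 A hA) (b i) * ρ = algebraMap R A (∏ k ∈ Finset.univ.erase i, r k) * a i := by
      refine Subtype.ext ?_
      rw [MulMemClass.coe_mul, MulMemClass.coe_mul, ha, Subalgebra.coe_algebraMap, Subalgebra.coe_algebraMap,
        ← mul_assoc, ← map_mul, Finset.prod_erase_mul _ _ (Finset.mem_univ i)]
      exact mul_comm _ _
    rw [this, map_mul]
    exact mul_mem (hρD _) (ha' i)
  · rw [map_ne_zero_iff _ hj]
    intro h
    have h' := congrArg Subtype.val h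
    rw [Subalgebra.coe_algebraMap, IsScalarTower.algebraMap_apply R K Ω, ZeroMemClass.coe_zero, map_eq_zero,
      map_eq_zero_iff _ (IsFractionRing.injective R K)] at h'
    exact Finset.prod_ne_zero_iff.2 (fun i _ => hr i) h'

set_option maxHeartbeats 200000 in
include K hR hΩ hA hSA hTA hcS hcT in
/-- If the smaller completion lies in the fraction field of the other then the completion map is an isomorphism. -/
theorem surjective_of_le (hLM : ∀ x : EGA4.Cpl (Subalgebra.comap (IsScalarTower.toAlgHom R L Ω) A),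
    ∃ a b : EGA4.Cpl (Subalgebra.comap (IsScalarTower.toAlgHom R M Ω) A),
      algebraMap (EGA4.Cpl (Subalgebra.comap (IsScalarTower.toAlgHom R M Ω) A)) (EGA4.Cpl A) b ≠ 0 ∧
      algebraMap (EGA4.Cpl (Subalgebra.comap (IsScalarTower.toAlgHom R L Ω) A)) (EGA4.Cpl A) x *
        algebraMap (EGA4.Cpl (Subalgebra.comap (IsScalarTower.toAlgHom R M Ω) A)) (EGA4.Cpl A) b =
      algebraMap (EGA4.Cpl (Subalgebra.comap (IsScalarTower.toAlgHom R M Ω) A)) (EGA4.Cpl A) a) :
    Function.Surjective (algebraMap (EGA4.Cpl (Subalgebra.comap (IsScalarTower.toAlgHom R M Ω) A)) (EGA4.Cpl A)) := by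
  classical
  haveI := hR.1
  obtain ⟨hfin, hsep⟩ := finite_separable K hΩ
  obtain ⟨hNA, hIA, hEA, -⟩ := props K 𝔪 A hA
  haveI : IsDomain (EGA4.Cpl A) :=
    (cpl_normal A (S2641.result R (hasGeomNormalFormalFibres_of_excellent R hR) A)).1
  obtain ⟨hdT, hiT, hinj⟩ := injective_comap K (L := M) 𝔪 A hA hTA hR hcT
  letI : Module (EGA4.Cpl (Subalgebra.comap (IsScalarTower.toAlgHom R M Ω) A)) (EGA4.Cpl A) := Algebra.toModule
  letI : SMul (EGA4.Cpl (Subalgebra.comap (IsScalarTower.toAlgHom R M Ω) A)) (EGA4.Cpl A) := Algebra.toSMul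
  set φ := algebraMap (EGA4.Cpl (Subalgebra.comap (IsScalarTower.toAlgHom R M Ω) A)) (EGA4.Cpl A) with hφ
  let W : Subalgebra (EGA4.Cpl (Subalgebra.comap (IsScalarTower.toAlgHom R L Ω) A)) (EGA4.Cpl A) :=
    { carrier := {y | ∃ a b, φ b ≠ 0 ∧ y * φ b = φ a}
      mul_mem' := by
        rintro x y ⟨a, b, hb, e⟩ ⟨a', b', hb', e'⟩
        refine ⟨a * a', b * b', by rw [map_mul]; exact mul_ne_zero hb hb', ?_⟩
        rw [map_mul, map_mul, ← e, ← e']; ring
      add_mem' := by
        rintro x y ⟨a, b, hb, e⟩ ⟨a', b', hb', e'⟩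
        refine ⟨a * b' + a' * b, b * b', by rw [map_mul]; exact mul_ne_zero hb hb', ?_⟩
        rw [map_mul, map_add, map_mul, map_mul, ← e, ← e']; ring
      algebraMap_mem' := hLM }
  have hle : Algebra.adjoin (EGA4.Cpl (Subalgebra.comap (IsScalarTower.toAlgHom R L Ω) A)) (Set.range φ) ≤ W :=
    Algebra.adjoin_le (by
      rintro _ ⟨a, rfl⟩
      exact ⟨a, 1, by rw [map_one]; exact one_ne_zero, by rw [map_one, mul_one]⟩)
  intro x
  obtain ⟨a₀, b₀, ha₀, hb₀, hb0, hx⟩ := frac_adjoin K hR hΩ 𝔪 A hA hSA hTA hcS hcT x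
  obtain ⟨α, β, hβ, hαβ⟩ := hle ha₀
  obtain ⟨γ, δ, hδ, hγδ⟩ := hle hb₀
  have hγ : φ γ ≠ 0 := hγδ ▸ mul_ne_zero hb0 hδ
  have hxq : x * φ (β * γ) = φ (α * δ) := by
    rw [map_mul, map_mul, ← hαβ, ← hγδ, ← hx]; ring
  have hden : φ (β * γ) ≠ 0 := by rw [map_mul]; exact mul_ne_zero hβ hγ
  obtain ⟨n, b, hb⟩ := exists_generators (R := R) K (Ω := Ω)
  exact mem_range_of_div hinj
    (fun i => algebraMap A (EGA4.Cpl A) (Subalgebra.inclusion (le_loc 𝔪 A hA) (b i)))
    (fun y => span_comap K (L := M) 𝔪 A hA hTA hcT b hb y) x _ _ hden hxq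

include K hR hΩ hA hSA hTA hcS hcT in
/-- The extension is then unramified. -/
theorem unramified [(maximalIdeal A).LiesOver (maximalIdeal (Subalgebra.comap (IsScalarTower.toAlgHom R M Ω) A))]
    (hLM : ∀ x : EGA4.Cpl (Subalgebra.comap (IsScalarTower.toAlgHom R L Ω) A),
    ∃ a b : EGA4.Cpl (Subalgebra.comap (IsScalarTower.toAlgHom R M Ω) A),
      algebraMap (EGA4.Cpl (Subalgebra.comap (IsScalarTower.toAlgHom R M Ω) A)) (EGA4.Cpl A) b ≠ 0 ∧
      algebraMap (EGA4.Cpl (Subalgebra.comap (IsScalarTower.toAlgHom R L Ω) A)) (EGA4.Cpl A) x *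
        algebraMap (EGA4.Cpl (Subalgebra.comap (IsScalarTower.toAlgHom R M Ω) A)) (EGA4.Cpl A) b =
      algebraMap (EGA4.Cpl (Subalgebra.comap (IsScalarTower.toAlgHom R M Ω) A)) (EGA4.Cpl A) a) :
    (maximalIdeal (Subalgebra.comap (IsScalarTower.toAlgHom R M Ω) A)).map
        (algebraMap (Subalgebra.comap (IsScalarTower.toAlgHom R M Ω) A) A) = maximalIdeal A ∧
    Module.Finite (Subalgebra.comap (IsScalarTower.toAlgHom R M Ω) A ⧸
      maximalIdeal (Subalgebra.comap (IsScalarTower.toAlgHom R M Ω) A)) (A ⧸ maximalIdeal A) ∧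
    Algebra.IsSeparable (Subalgebra.comap (IsScalarTower.toAlgHom R M Ω) A ⧸
      maximalIdeal (Subalgebra.comap (IsScalarTower.toAlgHom R M Ω) A)) (A ⧸ maximalIdeal A) := by
  classical
  haveI := hR.1
  obtain ⟨hfin, hsep⟩ := finite_separable K hΩ
  obtain ⟨hNA, -, -, -⟩ := props K 𝔪 A hA
  obtain ⟨qT, hqT, hT⟩ := comap_loc K (L := M) 𝔪 A hA
  obtain ⟨hNT, -, -, -⟩ := props K qT _ hT
  haveI := isLocalHom_comap K 𝔪 A hA hTA
  have hsurj := surjective_of_le K hR hΩ 𝔪 A hA hSA hTA hcS hcT hLM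
  set φ := algebraMap (EGA4.Cpl (Subalgebra.comap (IsScalarTower.toAlgHom R M Ω) A)) (EGA4.Cpl A) with hφ
  have hres : Function.Surjective (algebraMap (Subalgebra.comap (IsScalarTower.toAlgHom R M Ω) A ⧸
      maximalIdeal (Subalgebra.comap (IsScalarTower.toAlgHom R M Ω) A)) (A ⧸ maximalIdeal A)) := by
    intro y
    obtain ⟨a, rfl⟩ := Ideal.Quotient.mk_surjective y
    obtain ⟨c, hc⟩ := hsurj (algebraMap A (EGA4.Cpl A) a)
    obtain ⟨t, ht⟩ := Cohen.exists_sub_mem_pow c 1
    refine ⟨Ideal.Quotient.mk _ t, ?_⟩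
    show Ideal.Quotient.mk (maximalIdeal A) (algebraMap _ A t) = Ideal.Quotient.mk (maximalIdeal A) a
    rw [eq_comm, Ideal.Quotient.eq, ← pow_one (maximalIdeal A), ← mem_pow_cpl_iff, map_sub, ← hcT, ← hc, ← map_sub]
    exact cpl_map_pow hcT 1 _ ht
  refine ⟨le_antisymm (Ideal.map_le_iff_le_comap.2 fun t ht => map_nonunit _ t ht) fun a ha => ?_,
    Module.Finite.of_surjective (Algebra.linearMap _ _) hres, ⟨fun y => ?_⟩⟩
  · haveI : Module.Flat A (EGA4.Cpl A) := AdicCompletion.flat_of_isNoetherian _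
    haveI : Module.FaithfullyFlat A (EGA4.Cpl A) := Module.FaithfullyFlat.of_flat_of_isLocalHom
    rw [← Ideal.comap_map_eq_self_of_faithfullyFlat (B := EGA4.Cpl A)
      ((maximalIdeal (Subalgebra.comap (IsScalarTower.toAlgHom R M Ω) A)).map (algebraMap _ A)), Ideal.mem_comap]
    obtain ⟨c, hc⟩ := hsurj (algebraMap A (EGA4.Cpl A) a)
    have hcm : c ∈ maximalIdeal (EGA4.Cpl (Subalgebra.comap (IsScalarTower.toAlgHom R M Ω) A)) := fun hu => by
      have h1 : algebraMap A (EGA4.Cpl A) a ∈ maximalIdeal (EGA4.Cpl A) := by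
        rw [← pow_one (maximalIdeal (EGA4.Cpl A)), mem_pow_cpl_iff, pow_one]; exact ha
      rw [← hc] at h1
      exact h1 (hu.map φ)
    rw [AdicCompletion.maximalIdeal_eq_map] at hcm
    rw [← hc, Ideal.map_map,
      show (algebraMap A (EGA4.Cpl A)).comp (algebraMap _ A) = φ.comp (algebraMap _ _) from
        RingHom.ext fun t => (hcT t).symm, ← Ideal.map_map]
    exact Ideal.mem_map_of_mem φ hcm
  · letI := Ideal.Quotient.field (maximalIdeal (Subalgebra.comap (IsScalarTower.toAlgHom R M Ω) A))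
    obtain ⟨t, rfl⟩ := hres y
    exact isSeparable_algebraMap t

end Groth.Agent.CplComp
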